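import Mathlib.RingTheory.Kaehler.JacobiZariski
import Mathlib.RingTheory.Smooth.Basic
import Mathlib.RingTheory.Flat.Basic
import Mathlib.RingTheory.Flat.Stability
import Mathlib.Algebra.Exact.Basic
import Mathlib.RingTheory.Flat.TorsionFree

/-!
# Regular elements on absolute differentials of formally smooth algebras over a field; change of rings along isomorphisms

* `isSMulRegular_kaehler` : for `R → k → A` with `k` a field and `A` formally smooth over `k`, nonzerodivisors of `A`
  are regular on `Ω[A⁄R]`.
* `exists_equiv` : isomorphisms of algebras `(R, A) ≃ (S, B)` induce `Ω[A⁄R] ≃+ Ω[B⁄S]`.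
-/

set_option autoImplicit false
universe u v w

open scoped TensorProduct

namespace K888.KaehlerFlat

theorem isSMulRegular_of_exact {A : Type*} [CommRing A] {M N P : Type*} [AddCommGroup M] [AddCommGroup N]
    [AddCommGroup P] [Module A M] [Module A N] [Module A P] (f : M →ₗ[A] N) (g : N →ₗ[A] P)
    (hf : Function.Injective f) (hfg : Function.Exact f g) {t : A} (hM : IsSMulRegular M t)
    (hP : IsSMulRegular P t) : IsSMulRegular N t := by
  refine IsSMulRegular.of_right_eq_zero_of_smul fun x hx => ?_
  have h1 : g x = 0 := by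
    apply hP
    change t • g x = t • (0 : P)
    rw [← map_smul, hx, map_zero, smul_zero]
  obtain ⟨y, rfl⟩ := (hfg x).mp h1
  have h2 : y = 0 := by
    apply hM
    apply hf
    change f (t • y) = f (t • (0 : M))
    rw [map_smul, hx, smul_zero, map_zero]
  rw [h2, map_zero]

/-- A nonzerodivisor of `A` is regular on `Ω[A⁄R]` if `A` is formally smooth over a field `k` over `R`. -/
theorem isSMulRegular_kaehler (R : Type u) (k : Type v) (A : Type w) [CommRing R] [Field k] [CommRing A]
    [Algebra R k] [Algebra k A] [Algebra R A] [IsScalarTower R k A] [Algebra.FormallySmooth k A] {t : A}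
    (ht : t ∈ nonZeroDivisors A) : IsSMulRegular (Ω[A⁄R]) t := by
  refine isSMulRegular_of_exact (KaehlerDifferential.mapBaseChange R k A) (KaehlerDifferential.map R k A A) ?_
    (KaehlerDifferential.exact_mapBaseChange_map R k A) (Module.Flat.isSMulRegular_of_nonZeroDivisors ht)
    (Module.Flat.isSMulRegular_of_nonZeroDivisors ht)
  rw [injective_iff_map_eq_zero]
  intro x hx
  obtain ⟨y, rfl⟩ := (Algebra.H1Cotangent.exact_δ_mapBaseChange R k A x).mp hx
  rw [Subsingleton.elim y 0, map_zero]

/-- Additive maps out of the differentials are determined on `a db`. -/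
theorem omega_ext {R : Type*} {A : Type*} [CommRing R] [CommRing A] [Algebra R A] {M : Type*} [AddCommGroup M]
    (f g : Ω[A⁄R] →+ M) (h : ∀ a b : A, f (a • KaehlerDifferential.D R A b) =
      g (a • KaehlerDifferential.D R A b)) : f = g := by
  ext x
  have hx : x ∈ Submodule.span A (Set.range (KaehlerDifferential.D R A)) := by
    rw [KaehlerDifferential.span_range_derivation]
    trivial
  have key : ∀ a : A, f (a • x) = g (a • x) := by
    induction hx using Submodule.span_induction with
    | mem x hx =>
      obtain ⟨b, rfl⟩ := hx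
      exact fun a => h a b
    | zero => intro a; simp
    | add x y _ _ hx hy => intro a; rw [smul_add, map_add, map_add, hx, hy]
    | smul b x _ hx => intro a; rw [smul_smul]; exact hx _
  simpa using key 1

/-- The map on differentials attached to a homomorphism of pairs. -/
theorem exists_map {R : Type*} {S : Type*} {A : Type*} {B : Type*} [CommRing R] [CommRing S] [CommRing A]
    [CommRing B] [Algebra R A] [Algebra S B] (ρ : R →+* S) (φ : A →+* B)
    (h : ∀ r, φ (algebraMap R A r) = algebraMap S B (ρ r)) :
    ∃ E : Ω[A⁄R] →+ Ω[B⁄S], (∀ (a : A) (ω : Ω[A⁄R]), E (a • ω) = φ a • E ω) ∧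
      ∀ x, E (KaehlerDifferential.D R A x) = KaehlerDifferential.D S B (φ x) := by
  let : Algebra R S := ρ.toAlgebra
  let : Algebra A B := φ.toAlgebra
  let : Algebra R B := ((algebraMap S B).comp ρ).toAlgebra
  have : IsScalarTower R S B := IsScalarTower.of_algebraMap_eq (fun _ => rfl)
  have : IsScalarTower R A B := IsScalarTower.of_algebraMap_eq (fun r => (h r).symm)
  refine ⟨(KaehlerDifferential.map R S A B).toAddMonoidHom, fun a ω => ?_, fun x => ?_⟩
  · exact (map_smul (KaehlerDifferential.map R S A B) a ω).trans (algebraMap_smul B a _).symm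
  · exact KaehlerDifferential.map_D R S A B x

theorem exists_equiv {R : Type*} {S : Type*} {A : Type*} {B : Type*} [CommRing R] [CommRing S] [CommRing A]
    [CommRing B] [Algebra R A] [Algebra S B] (ρ : R ≃+* S) (φ : A ≃+* B)
    (h : ∀ r, φ (algebraMap R A r) = algebraMap S B (ρ r)) :
    ∃ E : Ω[A⁄R] ≃+ Ω[B⁄S], (∀ (a : A) (ω : Ω[A⁄R]), E (a • ω) = φ a • E ω) ∧
      ∀ x, E (KaehlerDifferential.D R A x) = KaehlerDifferential.D S B (φ x) := by
  obtain ⟨E, h1, h2⟩ := exists_map ρ.toRingHom φ.toRingHom h
  obtain ⟨F, h3, h4⟩ := exists_map (A := B) (B := A) ρ.symm.toRingHom φ.symm.toRingHom (fun s => by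
    apply φ.injective
    change φ (φ.symm _) = φ (algebraMap R A (ρ.symm s))
    rw [φ.apply_symm_apply, h, ρ.apply_symm_apply])
  have e1 : F.comp E = AddMonoidHom.id _ := by
    apply omega_ext
    intro a b
    rw [AddMonoidHom.comp_apply, h1, h2, h3, h4]
    change φ.symm (φ a) • KaehlerDifferential.D R A (φ.symm (φ b)) = _
    rw [φ.symm_apply_apply, φ.symm_apply_apply]
    rfl
  have e2 : E.comp F = AddMonoidHom.id _ := by
    apply omega_ext
    intro a b
    rw [AddMonoidHom.comp_apply, h3, h4, h1, h2]
    change φ (φ.symm a) • KaehlerDifferential.D S B (φ (φ.symm b)) = _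
    rw [φ.apply_symm_apply, φ.apply_symm_apply]
    rfl
  exact ⟨{ toFun := E, invFun := F, left_inv := fun x => DFunLike.congr_fun e1 x,
           right_inv := fun x => DFunLike.congr_fun e2 x, map_add' := map_add E }, h1, h2⟩

end K888.KaehlerFlat
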