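import Groth.Agent.Dix.K888.OmegaZar

/-!
# `H^q(X_et, 𝓘 Ω) = 0` for a sufficiently ample divisor (node B of S19260)
-/

set_option autoImplicit false
set_option linter.unusedSectionVars false

universe u

open CategoryTheory CategoryTheory.Limits AlgebraicGeometry Opposite TopologicalSpace

namespace K888.NodeB

open Groth.Agent Groth.Agent.Etbase Groth.Agent.Etbc.H212.ASClosed
open Groth.Agent.CurvesB.OmegaDer Groth.Agent.Fdesc.LocGen Groth.Agent.Dix.IdealModCartier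
open Groth.Agent.Etbase.ZarEtCoh Groth.Agent.Etbase.ZarEtH Groth.Agent.Etbase.GaZar
open K951.PChart K951.OmegaP K951.GoodBase K888.KaehlerFlat K888.OmegaZar
open scoped K951.PChart

section smooth

variable {k : Type u} [Field k] {X : Scheme.{u}} (f : X ⟶ Spec (CommRingCat.of k))

theorem quasiCompact_diagonal [IsSeparated f] : QuasiCompact (pullback.diagonal (fZ X)) := by
  let g : Spec (CommRingCat.of k) ⟶ Spec (CommRingCat.of (ULift.{u} ℤ)) := specULiftZIsTerminal.from _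
  have h : fZ X = f ≫ g := specULiftZIsTerminal.hom_ext _ _
  have hs : IsSeparated (f ≫ g) := inferInstance
  have hs' : IsSeparated (fZ X) := by rw [h]; exact hs
  infer_instance

/-- Nonzerodivisors are regular on absolute differentials. -/
theorem regular [Smooth f] {V : X.Opens} (hV : IsAffineOpen V) (t : Γ((et V).left, ⊤))
    (ht : t ∈ nonZeroDivisors Γ((et V).left, ⊤)) : IsSMulRegular (Ω[Γ((et V).left, ⊤)⁄ZZ.{u}]) t := by
  have hVa : IsAffine (V : Scheme.{u}) := hV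
  have h1 : (V.ι ≫ f).appTop.hom.Smooth := HasRingHomProperty.appTop @Smooth (V.ι ≫ f) inferInstance
  have h2 : ((Scheme.ΓSpecIso (CommRingCat.of k)).inv).hom.Smooth :=
    RingHom.Smooth.of_bijective (ConcreteCategory.bijective_of_isIso _)
  let φ : k →+* Γ((et V).left, ⊤) := (V.ι ≫ f).appTop.hom.comp ((Scheme.ΓSpecIso (CommRingCat.of k)).inv).hom
  have h3 : φ.Smooth := h2.comp h1
  let : Algebra k Γ((et V).left, ⊤) := φ.toAlgebra
  have h4 : Algebra.Smooth k Γ((et V).left, ⊤) := h3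
  have : IsScalarTower ZZ.{u} k Γ((et V).left, ⊤) := K951.PForm.isScalarTower_ZZ _ _
  exact isSMulRegular_kaehler ZZ.{u} k Γ((et V).left, ⊤) ht

end smooth

section theta

variable {X : Scheme.{u}} [QuasiCompact (pullback.diagonal (fZ X))] (𝓘 : X.IdealSheafData)

/-- Affine opens over which the ideal is principal. -/
def Bas : ObjectProperty X.Opens := fun V => IsAffineOpen V ∧ ∃ e : Γ(ClSub.idealMod 𝓘, V), IsGen e

theorem isCoverDense_bas (h𝓘 : PicF.IsInvertible (ClSub.idealMod 𝓘)) :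
    (Bas 𝓘).ι.IsCoverDense (Opens.grothendieckTopology X) where
  is_cover U := by
    intro x hx
    rw [isInvertible_iff] at h𝓘
    obtain ⟨U₀, e, hx₀, he⟩ := h𝓘 x
    obtain ⟨W, hxW, hW⟩ := exists_affine_mem_le (U ⊓ U₀) x ⟨hx, hx₀⟩
    refine ⟨W.1, homOfLE (hW.trans inf_le_left), ⟨⟨⟨W.1, W.2, _, he.res (hW.trans inf_le_right)⟩, 𝟙 _,
      homOfLE (hW.trans inf_le_left), rfl⟩⟩, hxW⟩

/-- The comparison on the base. -/
noncomputable def thV (V : X.Opens) (hV : Bas 𝓘 V) :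
    ULift.{u + 1} Γ(IΩ 𝓘, V) →+ (Q 𝓘.subschemeι).obj.obj (op (et V)) where
  toFun x := (toQ 𝓘.subschemeι).app (op (et V)) (toP 𝓘.subschemeι (frm 𝓘 hV.1 x.down) (frm_mem hV.1 hV.2.choose_spec _))
  map_zero' := by
    rw [← map_zero ((toQ 𝓘.subschemeι).app (op (et V))).hom]
    congr 1
    apply fm_injective
    rw [fm_toP, fm_zero]
    exact frm_zero 𝓘 hV.1
  map_add' x y := by
    rw [← map_add]
    congr 1
    apply fm_injective
    rw [fm_toP, fm_add, fm_toP, fm_toP]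
    exact frm_add 𝓘 hV.1 _ _

theorem thV_bijective (hreg : ∀ (V : X.Opens), IsAffineOpen V → ∀ t : Γ((et V).left, ⊤),
      t ∈ nonZeroDivisors Γ((et V).left, ⊤) → IsSMulRegular (Ω[Γ((et V).left, ⊤)⁄ZZ.{u}]) t)
    (V : X.Opens) (hV : Bas 𝓘 V) : Function.Bijective (thV 𝓘 V hV) := by
  have hb := toQ_bijective 𝓘.subschemeι (et V) hV.1
  constructor
  · intro x y h
    have h1 := congrArg (fm 𝓘.subschemeι) (hb.1 h)
    rw [fm_toP, fm_toP] at h1
    exact ULift.down_injective (frm_injective hV.1 hV.2.choose_spec (hreg V hV.1) h1)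
  · intro s
    obtain ⟨y, rfl⟩ := hb.2 s
    obtain ⟨m, hm⟩ := exists_frm hV.1 hV.2.choose_spec (fm_mem 𝓘.subschemeι y)
    refine ⟨ULift.up m, ?_⟩
    change (toQ 𝓘.subschemeι).app (op (et V)) _ = _
    congr 1
    apply fm_injective
    rw [fm_toP]
    exact hm

theorem thV_res {V W : X.Opens} (hV : Bas 𝓘 V) (hW : Bas 𝓘 W) (h : W ≤ V) (x : Γ(IΩ 𝓘, V)) :
    thV 𝓘 W hW (ULift.up (Groth.Agent.Fdesc.LocGen.res _ h x)) =
      (Q 𝓘.subschemeι).obj.map (em h).op (thV 𝓘 V hV (ULift.up x)) := by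
  have h1 := ConcreteCategory.congr_hom ((toQ 𝓘.subschemeι).naturality (em h).op)
    (toP 𝓘.subschemeι (frm 𝓘 hV.1 x) (frm_mem hV.1 hV.2.choose_spec _))
  refine Eq.trans ?_ h1
  change (toQ 𝓘.subschemeι).app (op (et W)) _ = (toQ 𝓘.subschemeι).app (op (et W)) _
  congr 1
  apply fm_injective
  rw [fm_toP]
  refine Eq.trans ?_ (fm_map 𝓘.subschemeι (em h) _).symm
  rw [fm_toP]
  exact frm_res hV.1 hW.1 h x

/-- The comparison isomorphism on the base. -/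
noncomputable def thIso (hreg : ∀ (V : X.Opens), IsAffineOpen V → ∀ t : Γ((et V).left, ⊤),
      t ∈ nonZeroDivisors Γ((et V).left, ⊤) → IsSMulRegular (Ω[Γ((et V).left, ⊤)⁄ZZ.{u}]) t) :
    (Bas 𝓘).ι.op ⋙ ((ulZ X).obj (Coh.toAb (IΩ 𝓘))).obj ≅
      (Bas 𝓘).ι.op ⋙ ((EtZar.resZar X).obj (Q 𝓘.subschemeι)).obj :=
  NatIso.ofComponents (fun V => (AddEquiv.ofBijective (thV 𝓘 V.unop.1 V.unop.2)
      (thV_bijective 𝓘 hreg V.unop.1 V.unop.2)).toAddCommGrpIso) (by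
    intro V W g
    apply AddCommGrpCat.hom_ext
    apply AddMonoidHom.ext
    intro x
    exact thV_res 𝓘 V.unop.2 W.unop.2 g.unop.hom.le x.down)

theorem exists_iso (h𝓘 : PicF.IsInvertible (ClSub.idealMod 𝓘))
    (hreg : ∀ (V : X.Opens), IsAffineOpen V → ∀ t : Γ((et V).left, ⊤),
      t ∈ nonZeroDivisors Γ((et V).left, ⊤) → IsSMulRegular (Ω[Γ((et V).left, ⊤)⁄ZZ.{u}]) t) :
    Nonempty ((ulZ X).obj (Coh.toAb (IΩ 𝓘)) ≅ (EtZar.resZar X).obj (Q 𝓘.subschemeι)) := by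
  have := isCoverDense_bas 𝓘 h𝓘
  exact ⟨Functor.IsCoverDense.sheafIso (thIso 𝓘 hreg)⟩

theorem bijective_HH (h𝓘 : PicF.IsInvertible (ClSub.idealMod 𝓘))
    (hreg : ∀ (V : X.Opens), IsAffineOpen V → ∀ t : Γ((et V).left, ⊤),
      t ∈ nonZeroDivisors Γ((et V).left, ⊤) → IsSMulRegular (Ω[Γ((et V).left, ⊤)⁄ZZ.{u}]) t) (q : ℕ) :
    ∃ φ : Coh.HH X (IΩ 𝓘) q →+ EtCoh.H X (Q 𝓘.subschemeι) q, Function.Bijective φ := by
  obtain ⟨θ⟩ := exists_iso 𝓘 h𝓘 hreg
  exact ⟨compH θ.hom q, compH_bijective θ.hom (etAcyc_Q 𝓘.subschemeι) q⟩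

end theta

theorem nodeB_aux (k : Type u) [Field k]
    (X : Scheme.{u}) (f : X ⟶ Spec (CommRingCat.of k)) [IsSeparated f] (N : ℕ) [Smooth f]
    (𝓘 : X.IdealSheafData) (L : X.Modules) (hL : ClSub.IsInverseOf L (ClSub.idealMod 𝓘))
    (hsa : ∀ (q : ℕ) (Ω : X.Modules), ExtPow.IsExtPow q (Omega.sheaf (specULiftZIsTerminal.from X)) Ω →
      ∀ n i : ℕ, 1 ≤ n → i + q + 1 ≤ N →
      Subsingleton (Coh.HH X (CohB1.tensorMod (CohB1.tensorPow (ClSub.idealMod 𝓘) n) Ω) i))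
    (q : ℕ) (hq : q + 2 ≤ N) (𝓙 : X.IdealSheafData) (h𝓙 : 𝓙 = 𝓘) :
    Subsingleton (EtCoh.H X (K951.OmegaP.Q 𝓙.subschemeι) q) := by
  subst h𝓙
  have := quasiCompact_diagonal f
  obtain ⟨φ, hφ⟩ := bijective_HH 𝓙 (isInvertible_of_isInverseOf hL).2 (fun V hV t ht => regular f hV t ht) q
  have h1 : Subsingleton (Coh.HH X (IΩ 𝓙) q) :=
    hsa 1 _ (Groth.Agent.Sga67.TensorOps.isExtPow_one _) 1 q le_rfl (by omega)
  exact (Equiv.ofBijective _ hφ).symm.subsingleton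

/-- **Node B.** -/
theorem nodeB (k : Type u) [Field k] (p : ℕ) [Fact p.Prime] [CharP k p]
    (X : Scheme.{u}) (f : X ⟶ Spec (CommRingCat.of k)) [IsProper f] (N : ℕ)
    [SmoothOfRelativeDimension N f]
    (𝓘 : X.IdealSheafData) (L : X.Modules) (hL : ClSub.IsInverseOf L (ClSub.idealMod 𝓘))
    (hsa : ∀ (q : ℕ) (Ω : X.Modules), ExtPow.IsExtPow q (Omega.sheaf (specULiftZIsTerminal.from X)) Ω → ∀ n i : ℕ, 1 ≤ n → i + q + 1 ≤ N → Subsingleton (Coh.HH X (CohB1.tensorMod (CohB1.tensorPow (ClSub.idealMod 𝓘) n) Ω) i))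
    (q : ℕ) (hq : q + 2 ≤ N) :
    Subsingleton (EtCoh.H X (K951.OmegaP.Q (jn 𝓘 1)) q) := by
  have : Smooth f := SmoothOfRelativeDimension.smooth (n := N) f
  exact nodeB_aux k X f N 𝓘 L hL hsa q hq (𝓘 ^ 1) (pow_one 𝓘)

end K888.NodeB
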