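import Groth.Agent.Dix.K951.GoodBase
import Groth.Agent.Dix.K888.KaehlerFlat
import Groth.Agent.Lefpen.H721.OmegaSec
import Groth.Agent.Dix.IdealModCartier
import Groth.Agent.Ega2.TensPow
import Groth.Agent.Fdesc.LocGenGlue
import Groth.Agent.Sga67.TensorOps
import Groth.Agent.Etbase.ZarEtH

/-!
# Zariski and étale cohomology of `I ⊗ Ω`

For `X` smooth and separated over a field, `𝓘` an invertible ideal of `X`: the étale sheaf `Q` of absolute
differentials with coefficients in `𝓘` (`K951.OmegaP`) has the cohomology of the module `𝓘 ⊗ Ω_{X/ℤ}`.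
-/

set_option autoImplicit false
set_option linter.unusedSectionVars false

universe u

open CategoryTheory CategoryTheory.Limits AlgebraicGeometry Opposite TopologicalSpace

namespace K888.OmegaZar

open Groth.Agent Groth.Agent.Etbase Groth.Agent.Etbc.H212.ASClosed
open Groth.Agent.CurvesB.OmegaDer Groth.Agent.Fdesc.LocGen Groth.Agent.Dix.IdealModCartier
open Groth.Agent.Etbase.ZarEtCoh Groth.Agent.Etbase.ZarEtH Groth.Agent.Etbase.GaZar
open K951.PChart K951.OmegaP K951.GoodBase K888.KaehlerFlat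
open scoped K951.PChart

/-! ### Čech acyclicity -/

theorem etAcyc_of_bij {X : Scheme.{u}} {P : X.Etaleᵒᵖ ⥤ AddCommGrpCat.{u + 1}} {F : EtCoh.Ab X} (a : P ⟶ F.obj)
    (ha : ∀ U : X.Etale, IsAffine U.left → Function.Bijective (a.app (op U))) (h : EtCartan.EtAcyc P) :
    EtCartan.EtAcyc F.obj := by
  rintro V U f ⟨hV, hU, hf⟩ n x hx
  have hE : ∀ n, IsAffine ((Arrow.mk f).cechNerve.obj (op (SimplexCategory.mk n)) : X.Etale).left :=
    fun n => EtCartan.isAffine_cechNerve f n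
  obtain ⟨y, rfl⟩ := (ha _ (hE (n + 1))).2 x
  rw [← CechCartan.dC_naturality_apply] at hx
  have hx' := (ha _ (hE (n + 2))).1 (hx.trans (map_zero _).symm)
  obtain ⟨z, rfl⟩ := h f ⟨hV, hU, hf⟩ n y hx'
  exact ⟨_, (CechCartan.dC_naturality_apply a _ _ _).symm⟩

theorem etAcyc_Q {Z X : Scheme.{u}} (i : Z ⟶ X) [IsClosedImmersion i] : EtCartan.EtAcyc (Q i).obj :=
  etAcyc_of_bij (toQ i) (toQ_bijective i) (qcP i).etAcyc

/-! ### Differentials over affine opens -/

section beta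

variable (X : Scheme.{u})

/-- the structure morphism to the spectrum of the integers -/
noncomputable abbrev fZ : X ⟶ Spec (CommRingCat.of (ULift.{u} ℤ)) := specULiftZIsTerminal.from X

variable {X} [QuasiCompact (pullback.diagonal (fZ X))]

/-- the two names of the ring of integers -/
def rho : ULift.{u} ℤ ≃+* ZZ.{u} := RingEquiv.refl (ULift.{u} ℤ)

/-- The étale object attached to an open. -/
noncomputable def et (V : X.Opens) : X.Etale := (EtZar.zarToEt X).obj V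

/-- Functions on an open as functions on the corresponding étale object. -/
noncomputable def tI (V : X.Opens) : Γ(X, V) ≃+* Γ((et V).left, ⊤) :=
  V.topIso.symm.commRingCatIsoToRingEquiv

theorem exists_beta {V : X.Opens} (hV : IsAffineOpen V) :
    ∃ β : Γ(Omega.sheaf (fZ X), V) ≃+ Ω[Γ((et V).left, ⊤)⁄ZZ.{u}],
      (∀ (a : Γ(X, V)) (ω : Γ(Omega.sheaf (fZ X), V)), β (a • ω) = tI V a • β ω) ∧
      ∀ s : Γ(X, V), β (d (fZ X) V s) = KaehlerDifferential.D ZZ.{u} _ (tI V s) := by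
  obtain ⟨e, he⟩ := Lefpen.H721.OmegaSec.exists_omega_equiv (fZ X) hV
  let φ : Lefpen.H721.OmegaSec.SA (fZ X) V ≃+* Γ((et V).left, ⊤) := tI V
  have hφ : ∀ r : ULift.{u} ℤ, φ (algebraMap (ULift.{u} ℤ) (Lefpen.H721.OmegaSec.SA (fZ X) V) r) =
      algebraMap ZZ.{u} Γ((et V).left, ⊤) (rho r) :=
    fun r => RingHom.congr_fun (K951.PChart.hom_ext (A := Γ((et V).left, ⊤))
      (φ.toRingHom.comp (algebraMap (ULift.{u} ℤ) (Lefpen.H721.OmegaSec.SA (fZ X) V))) (algebraMap ZZ.{u} _)) r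
  obtain ⟨E, h1, h2⟩ := exists_equiv rho φ hφ
  refine ⟨e.symm.toAddEquiv.trans E, fun a ω => ?_, fun s => ?_⟩
  · change E (e.symm (a • ω)) = φ a • E (e.symm ω)
    have : e.symm (a • ω) = (show Lefpen.H721.OmegaSec.SA (fZ X) V from a) • e.symm ω := map_smul e.symm _ _
    rw [this, h1]
  · change E (e.symm (d (fZ X) V s)) = _
    rw [← he, e.symm_apply_apply]
    exact h2 s

/-- The identification of the sections of the sheaf of differentials over an affine open. -/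
noncomputable def beta {V : X.Opens} (hV : IsAffineOpen V) :
    Γ(Omega.sheaf (fZ X), V) ≃+ Ω[Γ((et V).left, ⊤)⁄ZZ.{u}] := (exists_beta hV).choose

theorem beta_smul {V : X.Opens} (hV : IsAffineOpen V) (a : Γ(X, V)) (ω : Γ(Omega.sheaf (fZ X), V)) :
    beta hV (a • ω) = tI V a • beta hV ω := (exists_beta hV).choose_spec.1 a ω

theorem beta_d {V : X.Opens} (hV : IsAffineOpen V) (s : Γ(X, V)) :
    beta hV (d (fZ X) V s) = KaehlerDifferential.D ZZ.{u} _ (tI V s) := (exists_beta hV).choose_spec.2 s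

/-- The map of étale objects attached to an inclusion. -/
noncomputable def em {V W : X.Opens} (h : W ≤ V) : et W ⟶ et V := (EtZar.zarToEt X).map (homOfLE h)

omit [QuasiCompact (pullback.diagonal (fZ X))] in
theorem tI_res {V W : X.Opens} (h : W ≤ V) (a : Γ(X, V)) :
    tI W (ores h a) = (em h).left.appTop (tI V a) :=
  (topIso_inv_naturality X h a).symm

/-- Additive maps out of the sections of the sheaf of differentials. -/
theorem sec_ext {V : X.Opens} (hV : IsAffineOpen V) {M : Type*} [AddCommGroup M]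
    (f g : Γ(Omega.sheaf (fZ X), V) →+ M) (h : ∀ a s : Γ(X, V), f (a • d (fZ X) V s) = g (a • d (fZ X) V s)) :
    f = g := by
  obtain ⟨e, he⟩ := Lefpen.H721.OmegaSec.exists_omega_equiv (fZ X) hV
  have h1 : f.comp e.toAddEquiv.toAddMonoidHom = g.comp e.toAddEquiv.toAddMonoidHom := by
    apply K888.KaehlerFlat.omega_ext
    intro a b
    have h2 : e (a • KaehlerDifferential.D (ULift.{u} ℤ) _ b) = a • e (KaehlerDifferential.D (ULift.{u} ℤ) _ b) :=
      map_smul e _ _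
    have h3 := congrArg (fun z => a • z) (he b)
    exact (congrArg f (h2.trans h3)).trans ((h a b).trans (congrArg g (h2.trans h3)).symm)
  ext x
  obtain ⟨y, rfl⟩ := e.surjective x
  exact DFunLike.congr_fun h1 y

theorem beta_res {V W : X.Opens} (hV : IsAffineOpen V) (hW : IsAffineOpen W) (h : W ≤ V)
    (ω : Γ(Omega.sheaf (fZ X), V)) :
    beta hW (Groth.Agent.Fdesc.LocGen.res _ h ω) = mapΩ (em h) (beta hV ω) := by
  have key : (beta hW).toAddMonoidHom.comp (Groth.Agent.Fdesc.LocGen.res (Omega.sheaf (fZ X)) h) =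
      (mapΩ (em h)).comp (beta hV).toAddMonoidHom := by
    apply sec_ext hV
    intro a s
    change beta hW (Groth.Agent.Fdesc.LocGen.res _ h (a • d (fZ X) V s)) = mapΩ (em h) (beta hV (a • d (fZ X) V s))
    rw [res_smul, beta_smul, beta_smul, mapΩ_smul, beta_d, mapΩ_D, tI_res]
    congr 1
    have h1 : Groth.Agent.Fdesc.LocGen.res _ h (d (fZ X) V s) = d (fZ X) W (ores h s) := d_res (fZ X) h s
    rw [h1, beta_d, tI_res]
  exact DFunLike.congr_fun key ω

end beta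

/-! ### Multiplication -/

section mu

variable {X : Scheme.{u}} (𝓘 : X.IdealSheafData) (M : X.Modules)

/-- The module `𝓘 ⊗ M`. -/
noncomputable abbrev IM : X.Modules := CohB1.tensorMod (CohB1.tensorPow (ClSub.idealMod 𝓘) 1) M

/-- Multiplication `𝓘 ⊗ M ⟶ M`. -/
noncomputable def mu : IM 𝓘 M ⟶ M :=
  Ega2.Tens.mapT ((Ega2.Tens.lunit (ClSub.idealMod 𝓘)).hom ≫ ClSub.idealModι 𝓘) (𝟙 M) ≫ (Ega2.Tens.lunit M).hom

variable {M}

theorem mu_tmul {U : X.Opens} (e : Γ(ClSub.idealMod 𝓘, U)) (m : Γ(M, U)) :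
    (mu 𝓘 M).app U (tmul (pow e 1) m) = val 𝓘 e • m := by
  have h1 : (Ega2.Tens.mapT ((Ega2.Tens.lunit (ClSub.idealMod 𝓘)).hom ≫ ClSub.idealModι 𝓘) (𝟙 M)).app U
      (tmul (pow e 1) m) = tmul (ofFun (val 𝓘 e)) m := by
    refine (Ega2.TensPow.mapT_tmul _ _ _ _).trans ?_
    congr 1
    exact congrArg ((ClSub.idealModι 𝓘).app U) (Ega2.TensPow.lunit_tmul e)
  refine (congrArg ((Ega2.Tens.lunit M).hom.app U) h1).trans ?_
  rw [ofFun_eq_smul, smul_tmul, Scheme.Modules.Hom.app_smul, Ega2.TensPow.lunit_tmul]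

end mu

/-! ### The comparison on affine opens with a generator -/

section alpha

variable {X : Scheme.{u}} [QuasiCompact (pullback.diagonal (fZ X))] (𝓘 : X.IdealSheafData)

/-- the module `𝓘 ⊗ Ω` -/
noncomputable abbrev IΩ : X.Modules := IM 𝓘 (Omega.sheaf (fZ X))

variable {V : X.Opens} (hV : IsAffineOpen V) {e : Γ(ClSub.idealMod 𝓘, V)} (he : IsGen e)

/-- The underlying form of a section. -/
noncomputable def frm (m : Γ(IΩ 𝓘, V)) : Ω[Γ((et V).left, ⊤)⁄ZZ.{u}] := beta hV ((mu 𝓘 _).app V m)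

theorem frm_zero : frm 𝓘 hV 0 = 0 := by
  unfold frm
  rw [map_zero, map_zero]

theorem frm_add (m m' : Γ(IΩ 𝓘, V)) : frm 𝓘 hV (m + m') = frm 𝓘 hV m + frm 𝓘 hV m' := by
  unfold frm
  rw [map_add, map_add]

variable {𝓘}

include he in
theorem isGen_pow_one : IsGen (pow e 1) := he.pow 1

include he in
theorem exists_tmul (m : Γ(IΩ 𝓘, V)) : ∃ ω : Γ(Omega.sheaf (fZ X), V), tmul (pow e 1) ω = m := by
  obtain ⟨ω, hω⟩ := (tmul_left_bijective (Omega.sheaf (fZ X)) (isGen_pow_one he) le_rfl).2 m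
  exact ⟨ω, by rw [← hω, res_refl]⟩

theorem frm_tmul (ω : Γ(Omega.sheaf (fZ X), V)) :
    frm 𝓘 hV (tmul (pow e 1) ω) = tI V (val 𝓘 e) • beta hV ω := by
  unfold frm
  rw [mu_tmul, beta_smul]

include hV he in
theorem J_eq : J 𝓘.subschemeι (et V) = Ideal.span {tI V (val 𝓘 e)} := by
  have h0 : ∀ a : Γ(X, V), tI V a ∈ J 𝓘.subschemeι (et V) ↔ a ∈ 𝓘.ideal ⟨V, hV⟩ := mem_J_zar 𝓘 ⟨V, hV⟩
  have h1 : 𝓘.ideal ⟨V, hV⟩ = Ideal.span {val 𝓘 e} := by
    have := (genOn_of_isGen he ⟨V, hV⟩ le_rfl).2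
    rwa [ores_refl] at this
  ext a
  obtain ⟨b, rfl⟩ := (tI V).surjective a
  rw [h0, h1, Ideal.mem_span_singleton, Ideal.mem_span_singleton]
  exact (map_dvd_iff (tI V)).symm

include hV he in
theorem tI_mem_nonZeroDivisors : tI V (val 𝓘 e) ∈ nonZeroDivisors Γ((et V).left, ⊤) := by
  have h1 : val 𝓘 e ∈ nonZeroDivisors Γ(X, V) := by
    have := (genOn_of_isGen he ⟨V, hV⟩ le_rfl).1
    rwa [ores_refl] at this
  rw [mem_nonZeroDivisors_iff_right] at h1 ⊢
  intro a ha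
  obtain ⟨b, rfl⟩ := (tI V).surjective a
  rw [← map_mul, EmbeddingLike.map_eq_zero_iff] at ha
  rw [h1 b ha, map_zero]

include he in
theorem frm_mem (m : Γ(IΩ 𝓘, V)) : frm 𝓘 hV m ∈ JΩ 𝓘.subschemeι (et V) := by
  obtain ⟨ω, rfl⟩ := exists_tmul he m
  rw [frm_tmul, JΩ, J_eq hV he]
  exact Submodule.smul_mem_smul (Ideal.mem_span_singleton_self _) trivial

include he in
theorem exists_frm {x : Ω[Γ((et V).left, ⊤)⁄ZZ.{u}]} (hx : x ∈ JΩ 𝓘.subschemeι (et V)) :
    ∃ m : Γ(IΩ 𝓘, V), frm 𝓘 hV m = x := by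
  rw [JΩ, J_eq hV he, Submodule.ideal_span_singleton_smul] at hx
  obtain ⟨y, -, rfl⟩ := hx
  obtain ⟨ω, rfl⟩ := (beta hV).surjective y
  exact ⟨tmul (pow e 1) ω, frm_tmul hV ω⟩

include he in
theorem frm_injective (hreg : ∀ t : Γ((et V).left, ⊤), t ∈ nonZeroDivisors Γ((et V).left, ⊤) →
    IsSMulRegular (Ω[Γ((et V).left, ⊤)⁄ZZ.{u}]) t) : Function.Injective (frm 𝓘 hV) := by
  intro m m' h
  obtain ⟨ω, rfl⟩ := exists_tmul he m
  obtain ⟨ω', rfl⟩ := exists_tmul he m'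
  rw [frm_tmul, frm_tmul] at h
  rw [(beta hV).injective (hreg _ (tI_mem_nonZeroDivisors hV he) h)]

omit hV in
theorem frm_res {W : X.Opens} (hV : IsAffineOpen V) (hW : IsAffineOpen W) (h : W ≤ V) (m : Γ(IΩ 𝓘, V)) :
    frm 𝓘 hW (Groth.Agent.Fdesc.LocGen.res _ h m) = mapΩ (em h) (frm 𝓘 hV m) := by
  unfold frm
  rw [app_res, beta_res hV hW h]

end alpha

end K888.OmegaZar
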